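import Mathlib
import Groth.Prelude.Def_Smoothing

/-!
# Flatness of exterior powers of flat modules, and of differentials of ind-smooth algebras
-/

set_option autoImplicit false
set_option linter.style.haveILetI false

universe u v

namespace Groth.Agent.KaehlerFlat

section Exterior

variable {R : Type u} [CommRing R] {M : Type v} [AddCommGroup M] [Module R M] {n : ℕ}

open exteriorPower

/-- An element of the kernel of `⋀ F → ⋀ M` dies as soon as finitely many kernel elements of `F → M` die. -/
theorem exists_finite_killing {F : Type v} [AddCommGroup F] [Module R F] (π : F →ₗ[R] M)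
    (hπ : Function.Surjective π) {ω : ⋀[R]^n F} (hω : exteriorPower.map n π ω = 0) :
    ∃ S : Finset F, (∀ s ∈ S, π s = 0) ∧ ∀ (N : Type v) [AddCommGroup N] [Module R N] (a : F →ₗ[R] N),
      (∀ s ∈ S, a s = 0) → exteriorPower.map n a ω = 0 := by
  classical
  let D : Submodule R (⋀[R]^n F) :=
    { carrier := {z | ∃ S : Finset F, (∀ s ∈ S, π s = 0) ∧ ∀ (N : Type v) [AddCommGroup N] [Module R N]
        (a : F →ₗ[R] N), (∀ s ∈ S, a s = 0) → exteriorPower.map n a z = 0}
      zero_mem' := ⟨∅, by simp, fun N _ _ a _ => map_zero _⟩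
      add_mem' := by
        rintro x y ⟨S, hS, hx⟩ ⟨T, hT, hy⟩
        refine ⟨S ∪ T, fun s hs => (Finset.mem_union.1 hs).elim (hS s) (hT s), fun N _ _ a ha => ?_⟩
        rw [map_add, hx N a fun s hs => ha s (Finset.mem_union_left _ hs),
          hy N a fun s hs => ha s (Finset.mem_union_right _ hs), add_zero]
      smul_mem' := by
        rintro c x ⟨S, hS, hx⟩
        exact ⟨S, hS, fun N _ _ a ha => by rw [map_smul, hx N a ha, smul_zero]⟩ }
  let σ : M → F := Function.surjInv hπ
  have hσ : ∀ m, π (σ m) = m := Function.surjInv_eq hπ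
  have hD : ∀ {z : ⋀[R]^n F} (S : Finset F), (∀ s ∈ S, π s = 0) → (∀ (N : Type v) [AddCommGroup N] [Module R N]
      (a : F →ₗ[R] N), (∀ s ∈ S, a s = 0) → exteriorPower.map n a z = 0) → D.mkQ z = 0 :=
    fun {z} S h1 h2 => (Submodule.Quotient.mk_eq_zero D).2 ⟨S, h1, h2⟩
  let Φ : M [⋀^Fin n]→ₗ[R] (⋀[R]^n F ⧸ D) :=
    { toFun := fun v => D.mkQ (ιMulti R n (σ ∘ v))
      map_update_add' := by
        intro _ v i x y
        rw [← sub_eq_zero, ← map_add, ← map_sub]
        refine hD {σ (x + y) - σ x - σ y} (by simp [hσ]) fun N _ _ a ha => ?_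
        have he := ha _ (Finset.mem_singleton_self _)
        rw [map_sub, map_sub, sub_sub, sub_eq_zero] at he
        rw [map_sub, map_add, sub_eq_zero]
        simp only [map_apply_ιMulti, Function.comp_update, he]
        exact (ιMulti R n).map_update_add _ i _ _
      map_update_smul' := by
        intro _ v i c x
        rw [← sub_eq_zero, ← map_smul, ← map_sub]
        refine hD {σ (c • x) - c • σ x} (by simp [hσ]) fun N _ _ a ha => ?_
        have he := ha _ (Finset.mem_singleton_self _)
        rw [map_sub, map_smul, sub_eq_zero] at he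
        rw [map_sub, map_smul, sub_eq_zero]
        simp only [map_apply_ιMulti, Function.comp_update, he]
        exact (ιMulti R n).map_update_smul _ i _ _
      map_eq_zero_of_eq' := fun v i j hv hij => by
        rw [(ιMulti R n).map_eq_zero_of_eq (σ ∘ v) (congrArg σ hv) hij, map_zero] }
  have hfac : (alternatingMapLinearEquiv Φ) ∘ₗ exteriorPower.map n π = D.mkQ := by
    refine exteriorPower.linearMap_ext (AlternatingMap.ext fun f => ?_)
    simp only [LinearMap.compAlternatingMap_apply, LinearMap.comp_apply, map_apply_ιMulti,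
      alternatingMapLinearEquiv_apply_ιMulti]
    show D.mkQ (ιMulti R n (σ ∘ (π ∘ f))) = D.mkQ (ιMulti R n f)
    rw [← sub_eq_zero, ← map_sub]
    refine hD (Finset.univ.image fun i => σ (π (f i)) - f i) (fun s hs => ?_) fun N _ _ a ha => ?_
    · obtain ⟨i, -, rfl⟩ := Finset.mem_image.1 hs
      simp [hσ]
    · rw [map_sub, map_apply_ιMulti, map_apply_ιMulti, sub_eq_zero]
      congr 1
      funext i
      have := ha _ (Finset.mem_image_of_mem _ (Finset.mem_univ i))
      rwa [map_sub, sub_eq_zero] at this
  have h0 := LinearMap.congr_fun hfac ω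
  rw [LinearMap.comp_apply, hω, map_zero] at h0
  exact (Submodule.Quotient.mk_eq_zero D).1 h0.symm

/-- Finitely many kernel elements can be killed through a free module. -/
theorem exists_free_killing [Module.Flat R M] (F : Type v) [AddCommGroup F] [Module R F] [Module.Free R F]
    (π : F →ₗ[R] M) (S : Finset F) (hS : ∀ s ∈ S, π s = 0) :
    ∃ (F' : Type (max u v)) (_ : AddCommGroup F') (_ : Module R F') (_ : Module.Free R F')
      (a : F →ₗ[R] F') (y : F' →ₗ[R] M), y ∘ₗ a = π ∧ ∀ s ∈ S, a s = 0 := by
  classical
  obtain ⟨ι, b⟩ := Module.Free.exists_basis R F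
  let T : Set ι := ↑(S.biUnion fun s => (b.repr s).support)
  haveI : Finite T := Finset.finite_toSet _
  let incl : (T →₀ R) →ₗ[R] F := b.repr.symm.toLinearMap ∘ₗ Finsupp.lmapDomain R R (Subtype.val : T → ι)
  let w : S → (T →₀ R) := fun s => Finsupp.comapDomain Subtype.val (b.repr s.1) Subtype.val_injective.injOn
  have hw : ∀ s : S, incl (w s) = s.1 := fun s => by
    show b.repr.symm (Finsupp.mapDomain Subtype.val (w s)) = s.1
    rw [Finsupp.mapDomain_comapDomain _ Subtype.val_injective, LinearEquiv.symm_apply_apply]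
    intro i hi
    exact ⟨⟨i, Finset.mem_coe.2 (Finset.mem_biUnion.2 ⟨s.1, s.2, hi⟩)⟩, rfl⟩
  obtain ⟨k, a₀, y₀, hy₀, ha₀⟩ := Module.Flat.exists_factorization_of_comp_eq_zero_of_free
    (f := Finsupp.linearCombination R w) (x := π ∘ₗ incl) (by
      refine Finsupp.lhom_ext fun s r => ?_
      simp [hw, hS s.1 s.2])
  refine ⟨(ι →₀ R) × (Fin k →₀ R), inferInstance, inferInstance, inferInstance, ?_⟩
  let rest : F →ₗ[R] (ι →₀ R) :=
    (Finsupp.lsum R fun i => if i ∈ T then 0 else Finsupp.lsingle i) ∘ₗ b.repr.toLinearMap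
  let onT : F →ₗ[R] (T →₀ R) :=
    (Finsupp.lsum R fun i => if h : i ∈ T then Finsupp.lsingle (⟨i, h⟩ : T) else 0) ∘ₗ b.repr.toLinearMap
  refine ⟨rest.prod (a₀ ∘ₗ onT), ((π ∘ₗ b.repr.symm.toLinearMap).coprod y₀), b.ext fun i => ?_, fun s hs => ?_⟩
  · simp only [LinearMap.comp_apply, LinearMap.coprod_apply, LinearMap.prod_apply, Pi.prod, rest, onT,
      LinearEquiv.coe_toLinearMap, Module.Basis.repr_self, Finsupp.lsum_single]
    by_cases h : i ∈ T
    · have := LinearMap.congr_fun hy₀ (Finsupp.single ⟨i, h⟩ 1)
      simp only [LinearMap.comp_apply] at this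
      simp [h, ← this, incl]
    · simp [h]
  · have h1 : rest s = 0 := by
      simp only [rest, LinearMap.comp_apply, LinearEquiv.coe_toLinearMap, Finsupp.lsum_apply]
      refine Finset.sum_eq_zero fun i hi => ?_
      simp [show i ∈ T from Finset.mem_coe.2 (Finset.mem_biUnion.2 ⟨s, hs, hi⟩)]
    have h2 : onT s = w ⟨s, hs⟩ := by
      have hid : onT ∘ₗ incl = LinearMap.id := Finsupp.lhom_ext fun t r => by
        simp [onT, incl, t.2]
      exact (congrArg onT (hw ⟨s, hs⟩)).symm.trans (LinearMap.congr_fun hid _)
    have h3 := LinearMap.congr_fun ha₀ (Finsupp.single ⟨s, hs⟩ 1)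
    simp only [LinearMap.comp_apply, Finsupp.linearCombination_single, one_smul, LinearMap.zero_apply] at h3
    simp [h1, h2, h3]

/-- Exterior powers of flat modules are flat. -/
theorem flat_exteriorPower {R : Type u} [CommRing R] {M : Type u} [AddCommGroup M] [Module R M] [Module.Flat R M]
    (n : ℕ) : Module.Flat R (⋀[R]^n M) := by
  classical
  refine Module.Flat.of_forall_isTrivialRelation fun {l f x} hx => ?_
  let π : (M →₀ R) →ₗ[R] M := Finsupp.linearCombination R id
  have hπ : Function.Surjective π := fun m => ⟨Finsupp.single m 1, by simp [π]⟩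
  choose X hX using fun i => exteriorPower.map_surjective (n := n) hπ (x i)
  obtain ⟨S, hS, hkill⟩ := exists_finite_killing π hπ (ω := ∑ i, f i • X i) (by simp [hX, hx])
  obtain ⟨F', _, _, _, a, y, hya, ha⟩ := exists_free_killing _ π S hS
  haveI : Module.Free R (⋀[R]^n F') := inferInstance
  have h0 : ∑ i, f i • exteriorPower.map n a (X i) = 0 := by
    simpa using hkill F' a ha
  obtain ⟨k, c, z, hcz, hfc⟩ := Module.Flat.isTrivialRelation_of_sum_smul_eq_zero h0
  refine ⟨k, c, fun j => exteriorPower.map n y (z j), fun i => ?_, hfc⟩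
  have := congrArg (exteriorPower.map n y) (hcz i)
  rw [← LinearMap.comp_apply, ← exteriorPower.map_comp, hya, hX] at this
  simpa using this

end Exterior

section Kaehler

open KaehlerDifferential MvPolynomial

variable {k A : Type u} [CommRing k] [CommRing A] [Algebra k A]

local notation "P" => MvPolynomial A k

/-- A relation between differentials comes from finitely many polynomial relations. -/
theorem exists_finite_killing_kaehler [Algebra P A] [IsScalarTower k P A]
    (hsurj : Function.Surjective (algebraMap P A)) {ω : Ω[P⁄k]} (hω : KaehlerDifferential.map k k P A ω = 0) :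
    ∃ S : Finset P, (∀ s ∈ S, algebraMap P A s = 0) ∧ ∀ (B : Type u) [CommRing B] [Algebra k B] [Algebra P B]
      [IsScalarTower k P B], (∀ s ∈ S, algebraMap P B s = 0) → KaehlerDifferential.map k k P B ω = 0 := by
  classical
  rw [← LinearMap.mem_ker, KaehlerDifferential.ker_map_of_surjective k P A hsurj] at hω
  obtain ⟨l, hl, rfl⟩ := hω
  let σ : A → P := Function.surjInv hsurj
  have hσ : ∀ a, algebraMap P A (σ a) = a := Function.surjInv_eq hsurj
  let T : Finset A := l.support.image (algebraMap P A)
  refine ⟨(l.support.image fun x => x - σ (algebraMap P A x)) ∪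
    T.image (fun b => ∑ x ∈ l.support with algebraMap P A x = b, l x), ?_, ?_⟩
  · intro s hs
    rcases Finset.mem_union.1 hs with hs | hs
    · obtain ⟨x, -, rfl⟩ := Finset.mem_image.1 hs
      rw [map_sub, hσ, sub_self]
    · obtain ⟨b, -, rfl⟩ := Finset.mem_image.1 hs
      have h := congrArg (fun g : A →₀ A => g b) (LinearMap.mem_ker.1 hl)
      simp only [LinearMap.comp_apply, Finsupp.mapRange.linearMap_apply, Finsupp.mapRange_apply,
        Finsupp.lmapDomain_apply, Algebra.linearMap_apply, Finsupp.zero_apply] at h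
      rw [Finsupp.mapDomain, Finsupp.sum_apply, Finsupp.sum] at h
      simpa [Finsupp.single_apply, Finset.sum_filter] using h
  · intro B _ _ _ _ hB
    have h1 : ∀ x ∈ l.support, algebraMap P B x = algebraMap P B (σ (algebraMap P A x)) := fun x hx => by
      rw [← sub_eq_zero, ← map_sub]
      exact hB _ (Finset.mem_union_left _ (Finset.mem_image_of_mem _ hx))
    rw [Finsupp.linearCombination_apply, Finsupp.sum, map_sum,
      ← Finset.sum_fiberwise_of_maps_to (t := T) fun x hx => Finset.mem_image_of_mem _ hx]
    refine Finset.sum_eq_zero fun b hb => ?_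
    rw [Finset.sum_congr rfl fun x hx => show KaehlerDifferential.map k k P B (l x • D k P x) =
        algebraMap P B (l x) • D k B (algebraMap P B (σ b)) by
      rw [map_smul, KaehlerDifferential.map_D, h1 x (Finset.mem_filter.1 hx).1, (Finset.mem_filter.1 hx).2,
        algebraMap_smul],
      ← Finset.sum_smul, ← map_sum, hB _ (Finset.mem_union_right _ (Finset.mem_image_of_mem _ hb)), zero_smul]

/-- Differentials of an ind-smooth algebra over a Noetherian ring form a flat module. -/
theorem flat_kaehler_of_indSmooth [IsNoetherianRing k] (h : Smoothing.IndSmooth k A) :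
    Module.Flat A Ω[A⁄k] := by
  classical
  letI : Algebra P A := (MvPolynomial.aeval (id : A → A)).toRingHom.toAlgebra
  haveI : IsScalarTower k P A := IsScalarTower.of_algebraMap_eq fun r => ((MvPolynomial.aeval (id : A → A)).commutes r).symm
  have hsurj : Function.Surjective (algebraMap P A) := fun a => ⟨X a, aeval_X _ _⟩
  refine Module.Flat.of_forall_isTrivialRelation fun {l f x} hx => ?_
  choose p hp using fun i => hsurj (f i)
  choose W hW using fun i => KaehlerDifferential.map_surjective_of_surjective k k P A hsurj (x i)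
  obtain ⟨S, hS, hkill⟩ := exists_finite_killing_kaehler hsurj (ω := ∑ i, p i • W i) (by
    rw [map_sum]
    simp only [map_smul, hW, ← algebraMap_smul A (p _), hp]
    exact hx)
  let V : Set A := ↑(S.biUnion fun s => s.vars)
  haveI : Finite V := Finset.finite_toSet _
  have hSV : ∀ s : S, ∃ q : MvPolynomial V k, rename Subtype.val q = s.1 := fun s =>
    exists_rename_eq_of_vars_subset_range _ Subtype.val Subtype.val_injective (fun v hv => by
      rw [Subtype.range_coe]; exact Finset.mem_coe.2 (Finset.mem_biUnion.2 ⟨s.1, s.2, hv⟩))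
  choose q hq using hSV
  let J : Ideal (MvPolynomial V k) := Ideal.span (Set.range q)
  haveI : Algebra.FinitePresentation k (MvPolynomial V k ⧸ J) :=
    Algebra.FinitePresentation.quotient (Submodule.fg_span (Set.finite_range q))
  have hqA : ∀ r ∈ J, MvPolynomial.aeval (fun v : V => (v : A)) r = 0 := fun r hr => by
    induction hr using Submodule.span_induction with
    | mem r hr =>
      obtain ⟨s, rfl⟩ := hr
      have h0 : MvPolynomial.aeval (id : A → A) s.1 = 0 := hS s.1 s.2
      rwa [← hq s, aeval_rename] at h0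
    | zero => exact map_zero _
    | add a b _ _ ha hb => rw [map_add, ha, hb, add_zero]
    | smul c a _ ha => rw [smul_eq_mul, map_mul, ha, mul_zero]
  obtain ⟨B₀, _, _, hB₀, g, h₀, hgh⟩ := h _ inferInstance (Ideal.Quotient.liftₐ J (aeval fun v : V => (v : A)) hqA)
  let B := MvPolynomial A B₀
  haveI : Algebra.FormallySmooth k B₀ := hB₀.formallySmooth
  haveI : Algebra.FormallySmooth k B := Algebra.FormallySmooth.comp k B₀ B
  let φ : P →ₐ[k] B := aeval fun v => if hv : v ∈ V then C (g (Ideal.Quotient.mk J (X ⟨v, hv⟩))) else X v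
  let ψ : B →ₐ[k] A :=
    AlgHom.mk (eval₂Hom h₀.toRingHom id) fun r => by
      show eval₂Hom h₀.toRingHom id (algebraMap k B r) = _
      rw [IsScalarTower.algebraMap_apply k B₀ B, MvPolynomial.algebraMap_eq, eval₂Hom_C]
      exact h₀.commutes r
  have hψφ : ψ.comp φ = aeval id := MvPolynomial.algHom_ext fun v => by
    show eval₂Hom h₀.toRingHom id (φ (X v)) = aeval id (X v)
    simp only [φ, aeval_X, id_eq]
    split_ifs with hv
    · rw [eval₂Hom_C]
      show h₀ (g (Ideal.Quotient.mk J (X ⟨v, hv⟩))) = v
      rw [← AlgHom.comp_apply, hgh]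
      simp
    · rw [eval₂Hom_X', id_eq]
  letI : Algebra P B := φ.toRingHom.toAlgebra
  haveI : IsScalarTower k P B := IsScalarTower.of_algebraMap_eq fun r => (φ.commutes r).symm
  letI : Algebra B A := ψ.toRingHom.toAlgebra
  haveI : IsScalarTower k B A := IsScalarTower.of_algebraMap_eq fun r => (ψ.commutes r).symm
  haveI : IsScalarTower P B A := IsScalarTower.of_algebraMap_eq fun r => (DFunLike.congr_fun hψφ r).symm
  have hkillB : ∀ s ∈ S, algebraMap P B s = 0 := fun s hs => by
    show φ s = 0
    have e : φ.comp (rename (Subtype.val : V → A)) =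
        (IsScalarTower.toAlgHom k B₀ B).comp (g.comp (Ideal.Quotient.mkₐ k J)) :=
      MvPolynomial.algHom_ext fun (v : ↥V) => by
        simp [φ, v.2, B, MvPolynomial.algebraMap_eq]
    have := DFunLike.congr_fun e (q ⟨s, hs⟩)
    rw [AlgHom.comp_apply, hq ⟨s, hs⟩] at this
    rw [this]
    simp [Ideal.Quotient.eq_zero_iff_mem.2 (show q ⟨s, hs⟩ ∈ J from Ideal.subset_span ⟨_, rfl⟩)]
  have h0 : ∑ i, algebraMap P B (p i) • KaehlerDifferential.map k k P B (W i) = 0 := by
    have := hkill B hkillB
    simpa [algebraMap_smul] using this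
  haveI : Module.Flat B Ω[B⁄k] := inferInstance
  obtain ⟨m, c, z, hcz, hfc⟩ := Module.Flat.isTrivialRelation_of_sum_smul_eq_zero h0
  refine ⟨m, fun i j => algebraMap B A (c i j), fun j => KaehlerDifferential.map k k B A (z j), fun i => ?_,
    fun j => ?_⟩
  · have := congrArg (KaehlerDifferential.map k k B A) (hcz i)
    rw [map_sum] at this
    have e : KaehlerDifferential.map k k B A (KaehlerDifferential.map k k P B (W i)) =
        KaehlerDifferential.map k k P A (W i) := by
      have : (KaehlerDifferential.map k k B A).restrictScalars P ∘ₗ KaehlerDifferential.map k k P B =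
          KaehlerDifferential.map k k P A := by
        refine Derivation.liftKaehlerDifferential_unique _ _ (Derivation.ext fun r => ?_)
        show KaehlerDifferential.map k k B A (KaehlerDifferential.map k k P B (D k P r)) =
          KaehlerDifferential.map k k P A (D k P r)
        rw [map_D, map_D, map_D, ← IsScalarTower.algebraMap_apply]
      exact LinearMap.congr_fun this (W i)
    rw [e, hW] at this
    rw [this]
    exact Finset.sum_congr rfl fun j _ => by rw [map_smul, algebraMap_smul]
  · have := congrArg (algebraMap B A) (hfc j)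
    rw [map_sum, map_zero] at this
    simpa [← IsScalarTower.algebraMap_apply, hp] using this

end Kaehler

end Groth.Agent.KaehlerFlat
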